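import Cfsg.Agent.Lib.Helper35.ONNOrd.X0.Chk0

namespace Cfsg.Agent.Lib.Helper35.ONNOrd.X0

open Cfsg.Agent.Lib.Helper35

noncomputable def reach0 : ReachData ONN57.pt 56 [[0], [1], [2], [3], [4], [5], [0], [1], [4], [5, 3], [3, 5], [2, 3, 1, 2], [2, 0, 3, 2]] 0 57 where
  sl := sl0
  hsl := rfl
  ot := ot0
  big := 16
  hchk := q0u0
  hcnt := m0n0
theorem fix0 : ∀ s ∈ ([[0], [1], [4], [5, 3], [3, 5], [2, 3, 1, 2], [2, 0, 3, 2]] : List (List Nat)), pwalk ONN57.pt s 0 = 0 := by decide +kernel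
noncomputable def reach1 : ReachData ONN57.pt 56 [[0], [1], [4], [5, 3], [3, 5], [2, 3, 1, 2], [2, 0, 3, 2], [4], [0, 2, 3, 1, 2, 0], [1, 2, 0, 3, 2, 1], [5, 3, 2, 3, 1, 2, 4, 5, 3, 4, 2, 0, 3, 2, 3, 5], [5, 3, 2, 3, 1, 2, 4, 3, 5, 4, 2, 0, 3, 2, 3, 5]] 1 56 where
  sl := sl1
  hsl := rfl
  ot := ot1
  big := 10
  hchk := q1u0
  hcnt := m1n0
theorem fix1 : ∀ s ∈ ([[4], [0, 2, 3, 1, 2, 0], [1, 2, 0, 3, 2, 1], [5, 3, 2, 3, 1, 2, 4, 5, 3, 4, 2, 0, 3, 2, 3, 5], [5, 3, 2, 3, 1, 2, 4, 3, 5, 4, 2, 0, 3, 2, 3, 5]] : List (List Nat)), pwalk ONN57.pt s 1 = 1 := by decide +kernel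
noncomputable def reach2 : ReachData ONN57.pt 56 [[4], [0, 2, 3, 1, 2, 0], [1, 2, 0, 3, 2, 1], [5, 3, 2, 3, 1, 2, 4, 5, 3, 4, 2, 0, 3, 2, 3, 5], [5, 3, 2, 3, 1, 2, 4, 3, 5, 4, 2, 0, 3, 2, 3, 5], [4, 5, 3, 2, 3, 1, 2, 4, 5, 3, 4, 2, 0, 3, 2, 3, 5, 4], [4, 5, 3, 2, 3, 1, 2, 4, 3, 5, 4, 2, 0, 3, 2, 3, 5, 4], [1, 2, 0, 3, 2, 1, 4, 0, 2, 3, 1, 2, 0, 4, 1, 2, 0, 3, 2, 1, 1, 2, 0, 3, 2, 1], [0, 2, 3, 1, 2, 0, 0, 2, 3, 1, 2, 0, 4, 1, 2, 0, 3, 2, 1, 4, 0, 2, 3, 1, 2, 0], [0, 2, 3, 1, 2, 0, 4, 1, 2, 0, 3, 2, 1, 5, 3, 2, 3, 1, 2, 4, 5, 3, 4, 2, 0, 3, 2, 3, 5, 1, 2, 0, 3, 2, 1, 4, 0, 2, 3, 1, 2, 0, 4], [4, 1, 2, 0, 3, 2, 1, 4, 0, 2, 3, 1, 2, 0, 5, 3, 2, 3, 1, 2, 4, 3, 5, 4, 2, 0, 3, 2, 3, 5, 0, 2, 3, 1, 2, 0, 4, 1,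 2, 0, 3, 2, 1]] 2 49 where
  sl := sl2
  hsl := rfl
  ot := ot2
  big := 7
  hchk := q2u0
  hcnt := m2n0
theorem fix2 : ∀ s ∈ ([[4, 5, 3, 2, 3, 1, 2, 4, 5, 3, 4, 2, 0, 3, 2, 3, 5, 4], [4, 5, 3, 2, 3, 1, 2, 4, 3, 5, 4, 2, 0, 3, 2, 3, 5, 4], [1, 2, 0, 3, 2, 1, 4, 0, 2, 3, 1, 2, 0, 4, 1, 2, 0, 3, 2, 1, 1, 2, 0, 3, 2, 1], [0, 2, 3, 1, 2, 0, 0, 2, 3, 1, 2, 0, 4, 1, 2, 0, 3, 2, 1, 4, 0, 2, 3, 1, 2, 0], [0, 2, 3, 1, 2, 0, 4, 1, 2, 0, 3, 2, 1, 5, 3, 2, 3, 1, 2, 4, 5, 3, 4, 2, 0, 3, 2, 3, 5, 1, 2, 0, 3, 2, 1, 4, 0, 2, 3, 1, 2, 0, 4], [4, 1, 2, 0, 3, 2, 1, 4, 0, 2, 3, 1, 2, 0, 5, 3, 2, 3, 1, 2, 4, 3, 5, 4, 2, 0, 3, 2, 3, 5, 0, 2, 3, 1, 2, 0, 4, 1, 2, 0, 3, 2, 1]] : List (List Nat)), pwalk ONN57.pt s 2 = 2 := by decide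 +kernel
noncomputable def reach3 : ReachData ONN57.pt 56 [[4, 5, 3, 2, 3, 1, 2, 4, 5, 3, 4, 2, 0, 3, 2, 3, 5, 4], [4, 5, 3, 2, 3, 1, 2, 4, 3, 5, 4, 2, 0, 3, 2, 3, 5, 4], [1, 2, 0, 3, 2, 1, 4, 0, 2, 3, 1, 2, 0, 4, 1, 2, 0, 3, 2, 1, 1, 2, 0, 3, 2, 1], [0, 2, 3, 1, 2, 0, 0, 2, 3, 1, 2, 0, 4, 1, 2, 0, 3, 2, 1, 4, 0, 2, 3, 1, 2, 0], [0, 2, 3, 1, 2, 0, 4, 1, 2, 0, 3, 2, 1, 5, 3, 2, 3, 1, 2, 4, 5, 3, 4, 2, 0, 3, 2, 3, 5, 1, 2, 0, 3, 2, 1, 4, 0, 2, 3, 1, 2, 0, 4], [4, 1, 2, 0, 3, 2, 1, 4, 0, 2, 3, 1, 2, 0, 5, 3, 2, 3, 1, 2, 4, 3, 5, 4, 2, 0, 3, 2, 3, 5, 0, 2, 3, 1, 2, 0, 4, 1, 2, 0, 3, 2, 1]] 3 12 where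
  sl := sl3
  hsl := rfl
  ot := ot3
  big := 4
  hchk := q3u0
  hcnt := m3n0
theorem fix3 : ∀ s ∈ ([] : List (List Nat)), pwalk ONN57.pt s 3 = 3 := by decide +kernel
theorem yfix0 : ∀ i, i < 57 → pwalk ONN57.pt yl0.W i = i := fun i hi => fix_of_leaves' [yl0] 57 y0u0 yl0.W (by simp) i hi

end Cfsg.Agent.Lib.Helper35.ONNOrd.X0
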