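import Cfsg.Agent.Lib.Helper35.ONN57.Perm
import Cfsg.Agent.Lib.Helper35.Simple3

namespace Cfsg.Agent.Lib.Helper35.ONNOrd.X0

open Cfsg.Agent.Lib.Helper35

set_option maxRecDepth 100000
noncomputable section
noncomputable def tR0 : Nat := 0xf7b9ce6b5ad6b18c5ad6a529494a5294a108420e739ce7318c6294a4210631884210420
def ot0 (i : Nat) : Nat := Nat.land (Nat.shiftRight tR0 (Nat.mul i 5)) 31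
def sl0 : List (PLeaf ONN57.pt) := [⟨[0], (fun i => (ONN57.p0 i)), fun _ => rfl⟩, ⟨[1], (fun i => (ONN57.p1 i)), fun _ => rfl⟩, ⟨[2], (fun i => (ONN57.p2 i)), fun _ => rfl⟩, ⟨[3], (fun i => (ONN57.p3 i)), fun _ => rfl⟩, ⟨[4], (fun i => (ONN57.p4 i)), fun _ => rfl⟩, ⟨[5], (fun i => (ONN57.p5 i)), fun _ => rfl⟩, ⟨[0], (fun i => (ONN57.p0 i)), fun _ => rfl⟩, ⟨[1], (fun i => (ONN57.p1 i)), fun _ => rfl⟩, ⟨[4], (fun i => (ONN57.p4 i)), fun _ => rfl⟩, ⟨[5, 3], (fun i => (ONN57.p3 (ONN57.p5 i))), fun _ => rfl⟩, ⟨[3, 5], (fun i => (ONN57.p5 (ONN57.p3 i))), fun _ => rfl⟩, ⟨[2, 3, 1, 2], (fun i => (ONN57.p2 (ONN57.p1 (ONN57.p3 (ONN57.p2 i))))), fun _ => rfl⟩, ⟨[2, 0, 3, 2], (fun i => (ONN57.p2 (ONN57.p3 (ONN57.p0 (ONN57.p2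 i))))), fun _ => rfl⟩]
noncomputable def fq0 (j : Nat) : Bool := reachChk ot0 16 0 sl0 j
def fm0 (j : Nat) : Bool := markF ot0 16 j
noncomputable def tR1 : Nat := 0x98998988788776766556757455666565545554444334332221311120a
def ot1 (i : Nat) : Nat := Nat.land (Nat.shiftRight tR1 (Nat.mul i 4)) 15
def sl1 : List (PLeaf ONN57.pt) := [⟨[0], (fun i => (ONN57.p0 i)), fun _ => rfl⟩, ⟨[1], (fun i => (ONN57.p1 i)), fun _ => rfl⟩, ⟨[4], (fun i => (ONN57.p4 i)), fun _ => rfl⟩, ⟨[5, 3], (fun i => (ONN57.p3 (ONN57.p5 i))), fun _ => rfl⟩, ⟨[3, 5], (fun i => (ONN57.p5 (ONN57.p3 i))), fun _ => rfl⟩, ⟨[2, 3, 1, 2], (fun i => (ONN57.p2 (ONN57.p1 (ONN57.p3 (ONN57.p2 i))))), fun _ => rfl⟩, ⟨[2, 0, 3, 2], (fun i => (ONN57.p2 (ONN57.p3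 (ONN57.p0 (ONN57.p2 i))))), fun _ => rfl⟩, ⟨[4], (fun i => (ONN57.p4 i)), fun _ => rfl⟩, ⟨[0, 2, 3, 1, 2, 0], (fun i => (ONN57.p0 (ONN57.p2 (ONN57.p1 (ONN57.p3 (ONN57.p2 (ONN57.p0 i))))))), fun _ => rfl⟩, ⟨[1, 2, 0, 3, 2, 1], (fun i => (ONN57.p1 (ONN57.p2 (ONN57.p3 (ONN57.p0 (ONN57.p2 (ONN57.p1 i))))))), fun _ => rfl⟩, ⟨[5, 3, 2, 3, 1, 2, 4, 5, 3, 4, 2, 0, 3, 2, 3, 5], (fun i => (ONN57.p5 (ONN57.p3 (ONN57.p2 (ONN57.p3 (ONN57.p0 (ONN57.p2 (ONN57.p4 (ONN57.p3 (ONN57.p5 (ONN57.p4 (ONN57.p2 (ONN57.p1 (ONN57.p3 (ONN57.p2 (ONN57.p3 (ONN57.p5 i))))))))))))))))), fun _ => rfl⟩, ⟨[5, 3, 2, 3, 1, 2, 4, 3, 5, 4, 2, 0, 3, 2, 3, 5], (fun i => (ONN57.p5 (ONN57.p3 (ONN57.p2 (ONN57.p3 (ONN57.p0 (ONN57.p2 (ONN57.p4 (ONN57.p5 (ONN57.p3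 (ONN57.p4 (ONN57.p2 (ONN57.p1 (ONN57.p3 (ONN57.p2 (ONN57.p3 (ONN57.p5 i))))))))))))))))), fun _ => rfl⟩]
noncomputable def fq1 (j : Nat) : Bool := reachChk ot1 10 1 sl1 j
def fm1 (j : Nat) : Bool := markF ot1 10 j
noncomputable def tR2 : Nat := 0x4be5cedb3c7e4afd7215236eb6926fb9da4d144a63f
def ot2 (i : Nat) : Nat := Nat.land (Nat.shiftRight tR2 (Nat.mul i 3)) 7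
def sl2 : List (PLeaf ONN57.pt) := [⟨[4], (fun i => (ONN57.p4 i)), fun _ => rfl⟩, ⟨[0, 2, 3, 1, 2, 0], (fun i => (ONN57.p0 (ONN57.p2 (ONN57.p1 (ONN57.p3 (ONN57.p2 (ONN57.p0 i))))))), fun _ => rfl⟩, ⟨[1, 2, 0, 3, 2, 1], (fun i => (ONN57.p1 (ONN57.p2 (ONN57.p3 (ONN57.p0 (ONN57.p2 (ONN57.p1 i))))))), fun _ => rfl⟩, ⟨[5, 3, 2, 3, 1, 2, 4, 5, 3, 4, 2, 0, 3, 2, 3, 5], (fun i => (ONN57.p5 (ONN57.p3 (ONN57.p2 (ONN57.p3 (ONN57.p0 (ONN57.p2 (ONN57.p4 (ONN57.p3 (ONN57.p5 (ONN57.p4 (ONN57.p2 (ONN57.p1 (ONN57.p3 (ONN57.p2 (ONN57.p3 (ONN57.p5 i))))))))))))))))), fun _ => rfl⟩, ⟨[5, 3, 2, 3, 1, 2, 4, 3, 5, 4, 2, 0, 3, 2, 3, 5], (fun i => (ONN57.p5 (ONN57.p3 (ONN57.p2 (ONN57.p3 (ONN57.p0 (ONN57.p2 (ONN57.p4 (ONN57.p5 (ONN57.p3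 (ONN57.p4 (ONN57.p2 (ONN57.p1 (ONN57.p3 (ONN57.p2 (ONN57.p3 (ONN57.p5 i))))))))))))))))), fun _ => rfl⟩, ⟨[4, 5, 3, 2, 3, 1, 2, 4, 5, 3, 4, 2, 0, 3, 2, 3, 5, 4], (fun i => (ONN57.p4 (ONN57.p5 (ONN57.p3 (ONN57.p2 (ONN57.p3 (ONN57.p0 (ONN57.p2 (ONN57.p4 (ONN57.p3 (ONN57.p5 (ONN57.p4 (ONN57.p2 (ONN57.p1 (ONN57.p3 (ONN57.p2 (ONN57.p3 (ONN57.p5 (ONN57.p4 i))))))))))))))))))), fun _ => rfl⟩, ⟨[4, 5, 3, 2, 3, 1, 2, 4, 3, 5, 4, 2, 0, 3, 2, 3, 5, 4], (fun i => (ONN57.p4 (ONN57.p5 (ONN57.p3 (ONN57.p2 (ONN57.p3 (ONN57.p0 (ONN57.p2 (ONN57.p4 (ONN57.p5 (ONN57.p3 (ONN57.p4 (ONN57.p2 (ONN57.p1 (ONN57.p3 (ONN57.p2 (ONN57.p3 (ONN57.p5 (ONN57.p4 i))))))))))))))))))), fun _ => rfl⟩, ⟨[1, 2, 0, 3, 2, 1, 4, 0, 2, 3, 1, 2, 0, 4, 1, 2,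 0, 3, 2, 1, 1, 2, 0, 3, 2, 1], (fun i => (ONN57.p1 (ONN57.p2 (ONN57.p3 (ONN57.p0 (ONN57.p2 (ONN57.p1 (ONN57.p1 (ONN57.p2 (ONN57.p3 (ONN57.p0 (ONN57.p2 (ONN57.p1 (ONN57.p4 (ONN57.p0 (ONN57.p2 (ONN57.p1 (ONN57.p3 (ONN57.p2 (ONN57.p0 (ONN57.p4 (ONN57.p1 (ONN57.p2 (ONN57.p3 (ONN57.p0 (ONN57.p2 (ONN57.p1 i))))))))))))))))))))))))))), fun _ => rfl⟩, ⟨[0, 2, 3, 1, 2, 0, 0, 2, 3, 1, 2, 0, 4, 1, 2, 0, 3, 2, 1, 4, 0, 2, 3, 1, 2, 0], (fun i => (ONN57.p0 (ONN57.p2 (ONN57.p1 (ONN57.p3 (ONN57.p2 (ONN57.p0 (ONN57.p4 (ONN57.p1 (ONN57.p2 (ONN57.p3 (ONN57.p0 (ONN57.p2 (ONN57.p1 (ONN57.p4 (ONN57.p0 (ONN57.p2 (ONN57.p1 (ONN57.p3 (ONN57.p2 (ONN57.p0 (ONN57.p0 (ONN57.p2 (ONN57.p1 (ONN57.p3 (ONN57.p2 (ONN57.p0 i))))))))))))))))))))))))))),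 fun _ => rfl⟩, ⟨[0, 2, 3, 1, 2, 0, 4, 1, 2, 0, 3, 2, 1, 5, 3, 2, 3, 1, 2, 4, 5, 3, 4, 2, 0, 3, 2, 3, 5, 1, 2, 0, 3, 2, 1, 4, 0, 2, 3, 1, 2, 0, 4], (fun i => (ONN57.p4 (ONN57.p0 (ONN57.p2 (ONN57.p1 (ONN57.p3 (ONN57.p2 (ONN57.p0 (ONN57.p4 (ONN57.p1 (ONN57.p2 (ONN57.p3 (ONN57.p0 (ONN57.p2 (ONN57.p1 (ONN57.p5 (ONN57.p3 (ONN57.p2 (ONN57.p3 (ONN57.p0 (ONN57.p2 (ONN57.p4 (ONN57.p3 (ONN57.p5 (ONN57.p4 (ONN57.p2 (ONN57.p1 (ONN57.p3 (ONN57.p2 (ONN57.p3 (ONN57.p5 (ONN57.p1 (ONN57.p2 (ONN57.p3 (ONN57.p0 (ONN57.p2 (ONN57.p1 (ONN57.p4 (ONN57.p0 (ONN57.p2 (ONN57.p1 (ONN57.p3 (ONN57.p2 (ONN57.p0 i)))))))))))))))))))))))))))))))))))))))))))), fun _ => rfl⟩, ⟨[4, 1, 2, 0, 3, 2, 1, 4, 0, 2, 3, 1, 2, 0, 5, 3, 2, 3, 1, 2, 4, 3, 5, 4,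 2, 0, 3, 2, 3, 5, 0, 2, 3, 1, 2, 0, 4, 1, 2, 0, 3, 2, 1], (fun i => (ONN57.p1 (ONN57.p2 (ONN57.p3 (ONN57.p0 (ONN57.p2 (ONN57.p1 (ONN57.p4 (ONN57.p0 (ONN57.p2 (ONN57.p1 (ONN57.p3 (ONN57.p2 (ONN57.p0 (ONN57.p5 (ONN57.p3 (ONN57.p2 (ONN57.p3 (ONN57.p0 (ONN57.p2 (ONN57.p4 (ONN57.p5 (ONN57.p3 (ONN57.p4 (ONN57.p2 (ONN57.p1 (ONN57.p3 (ONN57.p2 (ONN57.p3 (ONN57.p5 (ONN57.p0 (ONN57.p2 (ONN57.p1 (ONN57.p3 (ONN57.p2 (ONN57.p0 (ONN57.p4 (ONN57.p1 (ONN57.p2 (ONN57.p3 (ONN57.p0 (ONN57.p2 (ONN57.p1 (ONN57.p4 i)))))))))))))))))))))))))))))))))))))))))))), fun _ => rfl⟩]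
noncomputable def fq2 (j : Nat) : Bool := reachChk ot2 7 2 sl2 j
def fm2 (j : Nat) : Bool := markF ot2 7 j
noncomputable def tR3 : Nat := 0x49248e4924724524314914864324921924924522124
def ot3 (i : Nat) : Nat := Nat.land (Nat.shiftRight tR3 (Nat.mul i 3)) 7
def sl3 : List (PLeaf ONN57.pt) := [⟨[4, 5, 3, 2, 3, 1, 2, 4, 5, 3, 4, 2, 0, 3, 2, 3, 5, 4], (fun i => (ONN57.p4 (ONN57.p5 (ONN57.p3 (ONN57.p2 (ONN57.p3 (ONN57.p0 (ONN57.p2 (ONN57.p4 (ONN57.p3 (ONN57.p5 (ONN57.p4 (ONN57.p2 (ONN57.p1 (ONN57.p3 (ONN57.p2 (ONN57.p3 (ONN57.p5 (ONN57.p4 i))))))))))))))))))), fun _ => rfl⟩, ⟨[4, 5, 3, 2, 3, 1, 2, 4, 3, 5, 4, 2, 0, 3, 2, 3, 5, 4], (fun i => (ONN57.p4 (ONN57.p5 (ONN57.p3 (ONN57.p2 (ONN57.p3 (ONN57.p0 (ONN57.p2 (ONN57.p4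 (ONN57.p5 (ONN57.p3 (ONN57.p4 (ONN57.p2 (ONN57.p1 (ONN57.p3 (ONN57.p2 (ONN57.p3 (ONN57.p5 (ONN57.p4 i))))))))))))))))))), fun _ => rfl⟩, ⟨[1, 2, 0, 3, 2, 1, 4, 0, 2, 3, 1, 2, 0, 4, 1, 2, 0, 3, 2, 1, 1, 2, 0, 3, 2, 1], (fun i => (ONN57.p1 (ONN57.p2 (ONN57.p3 (ONN57.p0 (ONN57.p2 (ONN57.p1 (ONN57.p1 (ONN57.p2 (ONN57.p3 (ONN57.p0 (ONN57.p2 (ONN57.p1 (ONN57.p4 (ONN57.p0 (ONN57.p2 (ONN57.p1 (ONN57.p3 (ONN57.p2 (ONN57.p0 (ONN57.p4 (ONN57.p1 (ONN57.p2 (ONN57.p3 (ONN57.p0 (ONN57.p2 (ONN57.p1 i))))))))))))))))))))))))))), fun _ => rfl⟩, ⟨[0, 2, 3, 1, 2, 0, 0, 2, 3, 1, 2, 0, 4, 1, 2, 0, 3, 2, 1, 4, 0, 2, 3, 1, 2, 0], (fun i => (ONN57.p0 (ONN57.p2 (ONN57.p1 (ONN57.p3 (ONN57.p2 (ONN57.p0 (ONN57.p4 (ONN57.p1 (ONN57.p2 (ONN57.p3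 (ONN57.p0 (ONN57.p2 (ONN57.p1 (ONN57.p4 (ONN57.p0 (ONN57.p2 (ONN57.p1 (ONN57.p3 (ONN57.p2 (ONN57.p0 (ONN57.p0 (ONN57.p2 (ONN57.p1 (ONN57.p3 (ONN57.p2 (ONN57.p0 i))))))))))))))))))))))))))), fun _ => rfl⟩, ⟨[0, 2, 3, 1, 2, 0, 4, 1, 2, 0, 3, 2, 1, 5, 3, 2, 3, 1, 2, 4, 5, 3, 4, 2, 0, 3, 2, 3, 5, 1, 2, 0, 3, 2, 1, 4, 0, 2, 3, 1, 2, 0, 4], (fun i => (ONN57.p4 (ONN57.p0 (ONN57.p2 (ONN57.p1 (ONN57.p3 (ONN57.p2 (ONN57.p0 (ONN57.p4 (ONN57.p1 (ONN57.p2 (ONN57.p3 (ONN57.p0 (ONN57.p2 (ONN57.p1 (ONN57.p5 (ONN57.p3 (ONN57.p2 (ONN57.p3 (ONN57.p0 (ONN57.p2 (ONN57.p4 (ONN57.p3 (ONN57.p5 (ONN57.p4 (ONN57.p2 (ONN57.p1 (ONN57.p3 (ONN57.p2 (ONN57.p3 (ONN57.p5 (ONN57.p1 (ONN57.p2 (ONN57.p3 (ONN57.p0 (ONN57.p2 (ONN57.p1 (ONN57.p4 (ONN57.p0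 (ONN57.p2 (ONN57.p1 (ONN57.p3 (ONN57.p2 (ONN57.p0 i)))))))))))))))))))))))))))))))))))))))))))), fun _ => rfl⟩, ⟨[4, 1, 2, 0, 3, 2, 1, 4, 0, 2, 3, 1, 2, 0, 5, 3, 2, 3, 1, 2, 4, 3, 5, 4, 2, 0, 3, 2, 3, 5, 0, 2, 3, 1, 2, 0, 4, 1, 2, 0, 3, 2, 1], (fun i => (ONN57.p1 (ONN57.p2 (ONN57.p3 (ONN57.p0 (ONN57.p2 (ONN57.p1 (ONN57.p4 (ONN57.p0 (ONN57.p2 (ONN57.p1 (ONN57.p3 (ONN57.p2 (ONN57.p0 (ONN57.p5 (ONN57.p3 (ONN57.p2 (ONN57.p3 (ONN57.p0 (ONN57.p2 (ONN57.p4 (ONN57.p5 (ONN57.p3 (ONN57.p4 (ONN57.p2 (ONN57.p1 (ONN57.p3 (ONN57.p2 (ONN57.p3 (ONN57.p5 (ONN57.p0 (ONN57.p2 (ONN57.p1 (ONN57.p3 (ONN57.p2 (ONN57.p0 (ONN57.p4 (ONN57.p1 (ONN57.p2 (ONN57.p3 (ONN57.p0 (ONN57.p2 (ONN57.p1 (ONN57.p4 i)))))))))))))))))))))))))))))))))))))))))))),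 fun _ => rfl⟩]
noncomputable def fq3 (j : Nat) : Bool := reachChk ot3 4 3 sl3 j
def fm3 (j : Nat) : Bool := markF ot3 4 j
def yl0 : PLeaf ONN57.pt := ⟨[0, 2, 4, 5, 3, 0, 2, 4, 5, 3, 0, 2, 4, 5, 3, 0, 2, 4, 5, 3, 0, 2, 4, 5, 3, 0, 2, 4, 5, 3, 0, 2, 4, 5, 3, 0, 2, 4, 5, 3, 0, 2, 4, 5, 3, 0, 2, 4, 5, 3, 0, 2, 4, 5, 3, 0, 2, 4, 5, 3, 0, 2, 4, 5, 3, 0, 2, 4, 5, 3, 0, 2, 4, 5, 3, 0, 2, 4, 5, 3, 0, 2, 4, 5, 3, 0, 2, 4, 5, 3, 0, 2, 4, 5, 3], (fun i => (ONN57.p3 (ONN57.p5 (ONN57.p4 (ONN57.p2 (ONN57.p0 (ONN57.p3 (ONN57.p5 (ONN57.p4 (ONN57.p2 (ONN57.p0 (ONN57.p3 (ONN57.p5 (ONN57.p4 (ONN57.p2 (ONN57.p0 (ONN57.p3 (ONN57.p5 (ONN57.p4 (ONN57.p2 (ONN57.p0 (ONN57.p3 (ONN57.p5 (ONN57.p4 (ONN57.p2 (ONN57.p0 (ONN57.p3 (ONN57.p5 (ONN57.p4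 (ONN57.p2 (ONN57.p0 (ONN57.p3 (ONN57.p5 (ONN57.p4 (ONN57.p2 (ONN57.p0 (ONN57.p3 (ONN57.p5 (ONN57.p4 (ONN57.p2 (ONN57.p0 (ONN57.p3 (ONN57.p5 (ONN57.p4 (ONN57.p2 (ONN57.p0 (ONN57.p3 (ONN57.p5 (ONN57.p4 (ONN57.p2 (ONN57.p0 (ONN57.p3 (ONN57.p5 (ONN57.p4 (ONN57.p2 (ONN57.p0 (ONN57.p3 (ONN57.p5 (ONN57.p4 (ONN57.p2 (ONN57.p0 (ONN57.p3 (ONN57.p5 (ONN57.p4 (ONN57.p2 (ONN57.p0 (ONN57.p3 (ONN57.p5 (ONN57.p4 (ONN57.p2 (ONN57.p0 (ONN57.p3 (ONN57.p5 (ONN57.p4 (ONN57.p2 (ONN57.p0 (ONN57.p3 (ONN57.p5 (ONN57.p4 (ONN57.p2 (ONN57.p0 (ONN57.p3 (ONN57.p5 (ONN57.p4 (ONN57.p2 (ONN57.p0 (ONN57.p3 (ONN57.p5 (ONN57.p4 (ONN57.p2 (ONN57.p0 (ONN57.p3 (ONN57.p5 (ONN57.p4 (ONN57.p2 (ONN57.p0 i)))))))))))))))))))))))))))))))))))))))))))))))))))))))))))))))))))))))))))))))))))))))))))))))),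 fun _ => rfl⟩
noncomputable def fy0 (i : Nat) : Bool := fixAll [yl0] i

end

end Cfsg.Agent.Lib.Helper35.ONNOrd.X0
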